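import Groth.Agent.EtSliceLib.Basic

/-!
# The pullback maps on cohomology in terms of free sheaves
-/

set_option autoImplicit false
set_option linter.unusedSectionVars false
set_option linter.style.haveILetI false
set_option backward.isDefEq.respectTransparency false
set_option backward.isDefEq.respectTransparency.types false
set_option synthInstance.maxHeartbeats 400000
set_option maxHeartbeats 1000000

universe u

open CategoryTheory CategoryTheory.Limits CategoryTheory.Abelian AlgebraicGeometry Opposite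
open Groth.Agent.EtShLib

namespace EtSliceLib

noncomputable section

theorem pullConst_inv_eq_etZ {X Y : Scheme.{u}} (f : X ⟶ Y) : (EtCore.pullConst f ℤ).inv = DescSecLib.etZ f := by
  apply ((EtCore.constAdj X).homEquiv _ _).injective
  unfold DescSecLib.etZ
  rw [Equiv.apply_symm_apply, EtCore.pullConst, EtCore.pullConstIso, Iso.app_inv,
    Adjunction.leftAdjointUniq_inv_app]
  erw [Adjunction.homEquiv_leftAdjointUniq_hom_app]
  simp [Adjunction.ofNatIsoRight, Adjunction.comp_unit_app, DescSecLib.etOneSec, DescSecLib.etσ,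
    EtCore.pushGsecIso]
  rfl

/-- The map to the constant sheaf. -/
def toConst {X : Scheme.{u}} (W : X.Etale) : free W ⟶ EtCoh.const X ℤ :=
  desc W ((EtCoh.const X ℤ).obj.map ((EtCore.topIsTerminal X).from W).op (DescSecLib.etOneSec X ⟨1⟩))

theorem freeMap_toConst {X : Scheme.{u}} {U V : X.Etale} (φ : U ⟶ V) : freeMap φ ≫ toConst V = toConst U := by
  refine free_hom_ext U ?_
  rw [freeMap_app, toConst, toConst, desc_gen, desc_gen, ← ConcreteCategory.comp_apply, ← Functor.map_comp,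
    ← op_comp]
  rw [(EtCore.topIsTerminal X).hom_ext (φ ≫ (EtCore.topIsTerminal X).from V) ((EtCore.topIsTerminal X).from U)]

theorem pullConst_inv_eq {X : Scheme.{u}} (W : X.Etale) :
    (EtCore.pullConst W.hom ℤ).inv = eta W ≫ (EtCoh.pull W.hom).map (toConst W) := by
  refine DescSecLib.et_ext_Z _ _ ?_
  erw [eta_map W (toConst W)]
  rw [toConst, desc_gen, pullConst_inv_eq_etZ]
  erw [gsec_map_symm]
  show ((EtCoh.pull W.hom).obj (EtCoh.const X ℤ)).obj.map (EtCore.bcTopIso W.hom).inv.op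
      (((EtCoh.pullPushAdj W.hom).unit.app (EtCoh.const X ℤ)).hom.app (op (EtCoh.top X))
        (DescSecLib.etOneSec X ⟨1⟩)) =
    ((EtCoh.pull W.hom).obj (EtCoh.const X ℤ)).obj.map (diag W).op
      (((EtCoh.pullPushAdj W.hom).unit.app (EtCoh.const X ℤ)).hom.app (op W)
        ((EtCoh.const X ℤ).obj.map ((EtCore.topIsTerminal X).from W).op (DescSecLib.etOneSec X ⟨1⟩)))
  erw [NatTrans.naturality_apply ((EtCoh.pullPushAdj W.hom).unit.app (EtCoh.const X ℤ)).hom
    ((EtCore.topIsTerminal X).from W).op]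
  show _ = ((EtCoh.pull W.hom).obj (EtCoh.const X ℤ)).obj.map (diag W).op
    (((EtCoh.pull W.hom).obj (EtCoh.const X ℤ)).obj.map
      ((EtCoh.bc W.hom).map ((EtCore.topIsTerminal X).from W)).op _)
  simp only [← ConcreteCategory.comp_apply, ← Functor.map_comp, ← op_comp]
  congr 3
  exact congrArg Quiver.Hom.op ((EtCore.bcTopIsTerminal W.hom).hom_ext _ _)

theorem Hpull_eq_psi {X : Scheme.{u}} (W : X.Etale) [PreservesFiniteLimits (EtCoh.pull W.hom)]
    (F : EtCoh.Ab X) (n : ℕ) (e : EtCoh.H X F n) :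
    EtCore.Hpull W.hom F n e = psi W F n ((Ext.mk₀ (toConst W)).comp e (zero_add n)) := by
  show (Ext.mk₀ (EtCore.pullConst W.hom ℤ).inv).comp (Ext.mapExactFunctor (EtCoh.pull W.hom) e) (zero_add n) = _
  rw [pullConst_inv_eq, psi_apply, Ext.mapExactFunctor_comp, Ext.mapExactFunctor_mk₀, ← Ext.mk₀_comp_mk₀,
    Ext.comp_assoc_of_second_deg_zero]

theorem pushComp_inv_eq {X Y Z : Scheme.{u}} (f : Y ⟶ Z) (g : X ⟶ Y) :
    (EtCoh.pushComp f g).inv = DescSecLib.etPc g f (g ≫ f) rfl := by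
  ext G : 2
  refine Sheaf.hom_ext (NatTrans.ext ?_)
  funext U
  show _ = G.obj.map (DescSecLib.bcCompHom g f (g ≫ f) rfl U.unop).op
  rw [EtCoh.pushComp]
  simp only [Functor.sheafPushforwardContinuousComp'_inv_app_hom_app]
  refine congrArg (fun t => G.obj.map (Quiver.Hom.op t)) (DescSecLib.bc_hom_ext (g ≫ f) _ _ ?_)
  rw [DescSecLib.bcCompHom_fst]
  simp [MorphismProperty.Over.pullbackComp, EtCoh.bc]

theorem pullComp_inv_eq {X Y Z : Scheme.{u}} (f : X ⟶ Y) (t : Y ⟶ Z) (f₀ : X ⟶ Z) (w : f ≫ t = f₀)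
    (G : EtCoh.Ab Z) :
    (((EtCore.pullComp f t).symm ≪≫ EtCore.pullCongr w).app G).hom = (DescSecLib.etSys.c f t f₀ w).app G := by
  subst w
  have e0 : EtCore.pullCongr (rfl : f ≫ t = f ≫ t) = Iso.refl _ := eqToIso_refl _
  rw [e0, Iso.trans_refl, Iso.app_hom, Iso.symm_hom, EtCore.pullComp, Adjunction.leftAdjointUniq_inv_app]
  apply ((((EtCoh.pullPushAdj t).comp (EtCoh.pullPushAdj f)).ofNatIsoRight (EtCoh.pushComp t f)).homEquiv _ _).injective
  erw [Adjunction.homEquiv_leftAdjointUniq_hom_app]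
  rw [Adjunction.homEquiv_ofNatIsoRight_apply, ← Iso.app_hom, ← Iso.comp_inv_eq, Iso.app_inv, pushComp_inv_eq,
    Adjunction.comp_homEquiv]
  exact (DescSecLib.etSys.homEquiv_c f t (f ≫ t) rfl G).symm

theorem HpullVia_eq_psi {X : Scheme.{u}} {U V : X.Etale} (φ : U ⟶ V)
    [PreservesFiniteLimits (EtCoh.pull φ.left)] (F : EtCoh.Ab X) (n : ℕ) (y : Ext.{u + 1} (free V) F n) :
    EtCore.HpullVia φ.left V.hom U.hom (MorphismProperty.Over.w φ) F n (psi V F n y) =
      psi U F n ((Ext.mk₀ (freeMap φ)).comp y (zero_add n)) := by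
  rw [← Hmap_psi, DescSecLib.PullSys.Hmap_apply, theta_eq_c, ← pullComp_inv_eq]
  show Ext.comp ((Ext.mk₀ (EtCore.pullConst φ.left ℤ).inv).comp
    (Ext.mapExactFunctor (EtCoh.pull φ.left) (psi V F n y)) (zero_add n)) (Ext.mk₀ _) (add_zero n) = _
  rw [pullConst_inv_eq_etZ]
  rfl

end

end EtSliceLib
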