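import Groth.Agent.EtSliceLib.Basic

/-!
# Mayer-Vietoris sequence of free sheaves for two open pieces of an etale object
-/

set_option autoImplicit false
set_option linter.unusedSectionVars false
set_option linter.style.haveILetI false
set_option backward.isDefEq.respectTransparency false
set_option backward.isDefEq.respectTransparency.types false
set_option synthInstance.maxHeartbeats 400000
set_option maxHeartbeats 1000000

universe u

open CategoryTheory CategoryTheory.Limits CategoryTheory.Abelian AlgebraicGeometry Opposite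
open Groth.Agent.EtShLib

namespace EtSliceLib

noncomputable section

variable {X : Scheme.{u}}

theorem mono_freeMap {A B : X.Etale} (φ : A ⟶ B) [Mono φ.left] : Mono (freeMap φ) := by
  refine (mono_iff_stalks (A := AddCommGrpCat.{u + 1}) _).2 fun Ω _ _ ξ => ?_
  classical
  let b : Fib ξ B → (AddCommGrpCat.of (ULift.{u + 1} ℤ) ⟶ (stk (A := AddCommGrpCat.{u + 1}) ξ).obj (free A)) := fun v =>
    if h : ∃ a : Fib ξ A, a.map φ = v then extConstSec A ℤ ≫ germ ξ _ A h.choose else 0
  obtain ⟨r, hr, -⟩ := existsUnique_stalk_extConst B ℤ ξ b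
  obtain ⟨i, -, hi⟩ := existsUnique_stalk_extConst A ℤ ξ (fun a => extConstSec A ℤ ≫ germ ξ _ A a)
  have h1 : (stk (A := AddCommGrpCat.{u + 1}) ξ).map (freeMap φ) ≫ r = i := hi _ fun a => by
    refine ulift_int_hom_ext ?_
    have hinj : ∀ a' : Fib ξ A, a'.map φ = a.map φ → a' = a := fun a' h =>
      Fib.ext ((cancel_mono φ.left).1 (congrArg Fib.hom h))
    have hex : ∃ a' : Fib ξ A, a'.map φ = a.map φ := ⟨a, rfl⟩
    have h2 := congrArg (fun t => t (ULift.up 1)) (hr (a.map φ))
    simp only [ConcreteCategory.comp_apply] at h2 ⊢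
    show r ((stk (A := AddCommGrpCat.{u + 1}) ξ).map (freeMap φ)
      (germ (A := AddCommGrpCat.{u + 1}) ξ (free A) A a (gen A))) = _
    rw [germ_natural_apply, freeMap_gen, germ_res_apply]
    refine h2.trans ?_
    simp only [b, dif_pos hex]
    rw [hinj _ hex.choose_spec]
    rfl
  have h3 : i = 𝟙 _ := (hi _ fun a => by rw [Category.comp_id]).symm
  haveI : Mono ((stk (A := AddCommGrpCat.{u + 1}) ξ).map (freeMap φ) ≫ r) := by rw [h1, h3]; infer_instance
  exact mono_of_mono _ r

theorem freeMap_comp {A B C : X.Etale} (φ : A ⟶ B) (ψ : B ⟶ C) : freeMap φ ≫ freeMap ψ = freeMap (φ ≫ ψ) := by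
  refine free_hom_ext A ?_
  rw [freeMap_app, freeMap_gen, freeMap_gen, op_comp, Functor.map_comp, ConcreteCategory.comp_apply]

variable {C A B T : X.Etale} (i : C ⟶ A) (j : C ⟶ B) (a : A ⟶ T) (b : B ⟶ T)

/-- The Mayer-Vietoris complex of free sheaves. -/
def mvFree (w : i ≫ a = j ≫ b) : ShortComplex (EtCoh.Ab X) :=
  ShortComplex.mk (biprod.lift (freeMap i) (-freeMap j)) (biprod.desc (freeMap a) (freeMap b))
    (by rw [biprod.lift_desc, Preadditive.neg_comp, freeMap_comp, freeMap_comp, w, add_neg_cancel])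

variable [IsOpenImmersion i.left] [IsOpenImmersion a.left] [IsOpenImmersion b.left]

theorem existsUnique_glue (w : i ≫ a = j ≫ b) (hcov : Set.range a.left.base ∪ Set.range b.left.base = Set.univ)
    (hint : Set.range a.left.base ∩ Set.range b.left.base ⊆ Set.range (i ≫ a).left.base) (G : EtCoh.Ab X)
    (s : ToType (G.obj.obj (op A))) (t : ToType (G.obj.obj (op B))) (h : G.obj.map i.op s = G.obj.map j.op t) :
    ∃! g : ToType (G.obj.obj (op T)), G.obj.map a.op g = s ∧ G.obj.map b.op g = t := by
  let W : Bool → X.Etale := fun k => Bool.rec (motive := fun _ => X.Etale) B A k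
  let π : ∀ k, W k ⟶ T := fun k => Bool.rec (motive := fun k => W k ⟶ T) b a k
  let x : ∀ k, G.obj.obj (op (W k)) := fun k => Bool.rec (motive := fun k => G.obj.obj (op (W k))) t s k
  have hmem : Sieve.ofArrows W π ∈ X.smallEtaleTopology T := by
    rw [Scheme.ofArrows_mem_smallEtaleTopology_iff]
    refine Set.eq_univ_of_forall fun y => ?_
    rcases hcov.ge (Set.mem_univ y) with hy | hy
    · exact Set.mem_iUnion.2 ⟨true, hy⟩
    · exact Set.mem_iUnion.2 ⟨false, hy⟩
  have hsh : (Presieve.ofArrows W π).IsSheafFor (G.obj ⋙ forget AddCommGrpCat.{u + 1}) := by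
    rw [Presieve.isSheafFor_iff_generate]
    exact ((isSheaf_iff_isSheaf_of_type _ _).1
      (GrothendieckTopology.HasSheafCompose.isSheaf G.obj G.property)) _ hmem
  have hmono : ∀ {Z D : X.Etale} (c : D ⟶ T) [IsOpenImmersion c.left] (p q : Z ⟶ D), p ≫ c = q ≫ c → p = q :=
    fun c _ p q h => MorphismProperty.Over.Hom.ext ((cancel_mono c.left).1 (congrArg (fun t => t.left) h))
  have hfac : ∀ {Z : X.Etale} (p : Z ⟶ A) (q : Z ⟶ B), p ≫ a = q ≫ b → G.obj.map p.op s = G.obj.map q.op t := by
    intro Z p q e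
    have e' : p.left ≫ a.left = q.left ≫ b.left := congrArg (fun t : Z ⟶ T => t.left) e
    have hr : Set.range p.left.base ⊆ Set.range i.left.base := by
      rintro _ ⟨z, rfl⟩
      obtain ⟨c, hc⟩ := hint ⟨⟨p.left z, rfl⟩, ⟨q.left z, by
        rw [← Scheme.Hom.comp_apply, ← e']; rfl⟩⟩
      exact ⟨c, a.left.isOpenEmbedding.injective hc⟩
    let r : Z ⟶ C := MorphismProperty.Over.homMk (IsOpenImmersion.lift i.left p.left hr) (by
      rw [← MorphismProperty.Over.w i, ← Category.assoc, IsOpenImmersion.lift_fac]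
      exact MorphismProperty.Over.w p)
    have hp : p = r ≫ i := MorphismProperty.Over.Hom.ext (IsOpenImmersion.lift_fac _ _ _).symm
    have hq : q = r ≫ j := hmono b _ _ (by rw [← e, hp, Category.assoc, Category.assoc, w])
    rw [hp, hq, op_comp, op_comp, Functor.map_comp, Functor.map_comp, ConcreteCategory.comp_apply,
      ConcreteCategory.comp_apply, h]
  obtain ⟨g, hg, hg'⟩ := (Presieve.isSheafFor_arrows_iff _ _).1 hsh x (fun k l Z p q e => by
    cases k <;> cases l
    · obtain rfl := hmono b p q e; rfl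
    · exact (hfac q p e.symm).symm
    · exact hfac p q e
    · obtain rfl := hmono a p q e; rfl)
  refine ⟨g, ⟨hg true, hg false⟩, fun g' hg'' => hg' g' fun k => ?_⟩
  cases k
  · exact hg''.2
  · exact hg''.1

theorem mvFree_shortExact (w : i ≫ a = j ≫ b) (hcov : Set.range a.left.base ∪ Set.range b.left.base = Set.univ)
    (hint : Set.range a.left.base ∩ Set.range b.left.base ⊆ Set.range (i ≫ a).left.base) :
    (mvFree i j a b w).ShortExact := by
  have hh : ∀ {G : EtCoh.Ab X} (c : (mvFree i j a b w).X₂ ⟶ G), (mvFree i j a b w).f ≫ c = 0 →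
      ∃! m : free T ⟶ G, (mvFree i j a b w).g ≫ m = c := by
    intro G c hc
    have hc' : freeMap i ≫ biprod.inl ≫ c = freeMap j ≫ biprod.inr ≫ c := by
      rw [← sub_eq_zero, ← hc]
      simp [mvFree, biprod.lift_eq, sub_eq_add_neg]
    have h' := congrArg (fun t => t.hom.app (op C) (gen C)) hc'
    simp only [freeMap_app] at h'
    obtain ⟨g, ⟨hg1, hg2⟩, hu⟩ := existsUnique_glue i j a b w hcov hint G _ _ h'
    refine ⟨desc T g, biprod.hom_ext' _ _ ?_ ?_, fun m hm => ?_⟩
    · simp only [mvFree, biprod.inl_desc_assoc]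
      refine free_hom_ext _ ?_
      rw [freeMap_app, desc_gen, hg1]
    · simp only [mvFree, biprod.inr_desc_assoc]
      refine free_hom_ext _ ?_
      rw [freeMap_app, desc_gen, hg2]
    · refine free_hom_ext _ ?_
      rw [desc_gen]
      refine hu _ ⟨?_, ?_⟩
      · rw [← freeMap_app a m, ← hm]; simp [mvFree]
      · rw [← freeMap_app b m, ← hm]; simp [mvFree]
  let hcol : IsColimit (CokernelCofork.ofπ (mvFree i j a b w).g (mvFree i j a b w).zero) :=
    CokernelCofork.IsColimit.ofπ _ _ (fun c hc => (hh c hc).choose)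
      (fun c hc => (hh c hc).choose_spec.1) (fun c hc m hm => (hh c hc).choose_spec.2 m hm)
  haveI := mono_freeMap i
  exact
    { exact := ShortComplex.exact_of_g_is_cokernel _ hcol
      mono_f := by
        haveI : Mono ((mvFree i j a b w).f ≫ biprod.fst) := by
          simp only [mvFree, biprod.lift_fst]
          infer_instance
        exact mono_of_mono _ biprod.fst
      epi_g := Cofork.IsColimit.epi hcol }

end

end EtSliceLib
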