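import Groth.Agent.EtShLib.RestrNat
import Groth.Agent.EtShLib.ExtConst
import Groth.Agent.DescSecLib.Et

/-!
# Cohomology of an etale object as Ext of the free sheaf on it
-/

set_option autoImplicit false
set_option linter.unusedSectionVars false
set_option linter.style.haveILetI false
set_option backward.isDefEq.respectTransparency false
set_option backward.isDefEq.respectTransparency.types false
set_option synthInstance.maxHeartbeats 400000
set_option maxHeartbeats 1000000

universe u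

open CategoryTheory CategoryTheory.Limits CategoryTheory.Abelian AlgebraicGeometry Opposite
open Groth.Agent.EtShLib

namespace EtSliceLib

noncomputable section

instance pullExact {X Y : Scheme.{u}} (f : X ⟶ Y) : PreservesFiniteLimits (EtCoh.pull f) :=
  AnLib.sheafPullback_preservesFiniteLimits.{u + 1} (EtCoh.bc f) _ _

variable {X : Scheme.{u}} (W : X.Etale)

theorem ulift_int_hom_ext {A : AddCommGrpCat.{u + 1}} {a b : AddCommGrpCat.of (ULift.{u + 1} ℤ) ⟶ A}
    (h : a ⟨1⟩ = b ⟨1⟩) : a = b := by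
  refine AddCommGrpCat.ext fun m => ?_
  obtain ⟨m⟩ := m
  have hm : (ULift.up m : ULift.{u + 1} ℤ) = m • (ULift.up (1 : ℤ)) := ULift.ext _ _ (by simp)
  rw [hm, map_zsmul, map_zsmul]
  exact congrArg (m • ·) h

/-- `1 ↦ s`. -/
def intHom {A : AddCommGrpCat.{u + 1}} (s : A) : AddCommGrpCat.of (ULift.{u + 1} ℤ) ⟶ A :=
  AddCommGrpCat.ofHom ((zmultiplesHom _ s).comp AddEquiv.ulift.toAddMonoidHom)

theorem intHom_one {A : AddCommGrpCat.{u + 1}} (s : A) : intHom s ⟨1⟩ = s := one_zsmul s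

/-- The free abelian sheaf on `W`. -/
abbrev free : EtCoh.Ab X := EtPBC.extZeroConst W ℤ

/-- The tautological section. -/
def gen : ToType ((free W).obj.obj (op W)) := extConstSec W ℤ (ULift.up 1)

theorem free_hom_ext {G : EtCoh.Ab X} {a b : free W ⟶ G}
    (h : a.hom.app (op W) (gen W) = b.hom.app (op W) (gen W)) : a = b :=
  extConst_hom_ext W ℤ (ulift_int_hom_ext h)

/-- The morphism attached to a section. -/
def desc {G : EtCoh.Ab X} (s : ToType (G.obj.obj (op W))) : free W ⟶ G :=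
  (exists_extConst_hom W ℤ (intHom s)).choose

theorem desc_gen {G : EtCoh.Ab X} (s : ToType (G.obj.obj (op W))) : (desc W s).hom.app (op W) (gen W) = s :=
  (congrArg (fun t => t ⟨1⟩) (exists_extConst_hom W ℤ (intHom s)).choose_spec :).trans (intHom_one s)

variable {W}

/-- Functoriality. -/
def freeMap {U V : X.Etale} (φ : U ⟶ V) : free U ⟶ free V := desc U ((free V).obj.map φ.op (gen V))

theorem freeMap_gen {U V : X.Etale} (φ : U ⟶ V) :
    (freeMap φ).hom.app (op U) (gen U) = (free V).obj.map φ.op (gen V) := desc_gen U _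

theorem freeMap_app {U V : X.Etale} (φ : U ⟶ V) {G : EtCoh.Ab X} (a : free V ⟶ G) :
    (freeMap φ ≫ a).hom.app (op U) (gen U) = G.obj.map φ.op (a.hom.app (op V) (gen V)) := by
  show a.hom.app (op U) ((freeMap φ).hom.app (op U) (gen U)) = _
  rw [freeMap_gen, NatTrans.naturality_apply]

variable (W)

/-- The diagonal. -/
def diag : EtCoh.top W.left ⟶ (EtCoh.bc W.hom).obj W :=
  MorphismProperty.Over.homMk (pullback.lift (𝟙 W.left) (𝟙 W.left) rfl) (pullback.lift_snd _ _ _)

/-- Sections over `W` as global sections of the inverse image. -/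
def sa (G : EtCoh.Ab X) : G.obj.obj (op W) ⟶ (EtCore.gsec W.left).obj ((EtCoh.pull W.hom).obj G) :=
  ((EtCoh.pullPushAdj W.hom).unit.app G).hom.app (op W) ≫ ((EtCoh.pull W.hom).obj G).obj.map (diag W).op

theorem sa_natural {G G' : EtCoh.Ab X} (φ : G ⟶ G') (s : ToType (G.obj.obj (op W))) :
    (EtCore.gsec W.left).map ((EtCoh.pull W.hom).map φ) (sa W G s) = sa W G' (φ.hom.app (op W) s) := by
  have h1 := congrArg (fun t : G ⟶ _ => t.hom.app (op W) s) ((EtCoh.pullPushAdj W.hom).unit.naturality φ)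
  show ((EtCoh.pull W.hom).map φ).hom.app (op (EtCoh.top W.left))
    (((EtCoh.pull W.hom).obj G).obj.map (diag W).op (((EtCoh.pullPushAdj W.hom).unit.app G).hom.app (op W) s)) = _
  rw [NatTrans.naturality_apply]
  exact congrArg (fun z => ((EtCoh.pull W.hom).obj G').obj.map (diag W).op z) h1.symm

theorem bijective_sa (G : EtCoh.Ab X) : Function.Bijective (sa W G) := by
  haveI : AlgebraicGeometry.Etale W.hom := W.prop
  haveI := jCont W.hom
  let θ : (EtCoh.pull W.hom).obj G ⟶ (EtShriek.restrAlong W.hom).obj G := (restrTheta W.hom).app G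
  haveI : IsIso θ := NatIso.isIso_app_of_isIso (restrTheta W.hom) G
  have hθ : ((EtCoh.pullPushAdj W.hom).unit.app G).hom.app (op W) ≫
      θ.hom.app (op ((EtCoh.bc W.hom).obj W)) = G.obj.map (compBc W.hom W).op := by
    refine congrArg (fun t : G ⟶ _ => t.hom.app (op W)) (?_ :
      (EtCoh.pullPushAdj W.hom).unit.app G ≫ (EtCoh.push W.hom).map θ = (restrEta W.hom).app G)
    exact ((EtCoh.pullPushAdj W.hom).homEquiv_unit (f := θ)).symm.trans (Equiv.apply_symm_apply _ _)
  let e := (EtShriek.compEtale W.hom).map (diag W) ≫ compBc W.hom W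
  have he : e.left = 𝟙 W.left := pullback.lift_fst _ _ _
  haveI : IsIso e :=
    ⟨MorphismProperty.Over.homMk (𝟙 W.left) (by
        show 𝟙 _ ≫ 𝟙 _ ≫ W.hom = _
        rw [Category.id_comp, Category.id_comp]),
      MorphismProperty.Over.Hom.ext ((Category.comp_id _).trans he),
      MorphismProperty.Over.Hom.ext ((Category.id_comp _).trans he)⟩
  have h : sa W G ≫ θ.hom.app (op (EtCoh.top W.left)) = G.obj.map e.op := by
    rw [sa, Category.assoc, NatTrans.naturality]
    exact ((Category.assoc _ _ _).symm.trans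
      (congrArg (· ≫ ((EtShriek.restrAlong W.hom).obj G).obj.map (diag W).op) hθ)).trans (G.obj.map_comp _ _).symm
  haveI : IsIso (θ.hom.app (op (EtCoh.top W.left))) :=
    inferInstanceAs (IsIso (((sheafToPresheaf _ _).map θ).app (op (EtCoh.top W.left))))
  haveI : IsIso (sa W G ≫ θ.hom.app (op (EtCoh.top W.left))) := by rw [h]; infer_instance
  haveI := IsIso.of_isIso_comp_right (sa W G) (θ.hom.app (op (EtCoh.top W.left)))
  exact ConcreteCategory.bijective_of_isIso (sa W G)

theorem injective_pull (I : EtCoh.Ab X) [Injective I] : Injective ((EtCoh.pull W.hom).obj I) := by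
  haveI : AlgebraicGeometry.Etale W.hom := W.prop
  haveI := jCont W.hom
  haveI : (EtShriek.extZero W.hom).PreservesMonomorphisms := ⟨fun α _ => mono_extZero_map W.hom α⟩
  haveI : IsIso ((restrTheta W.hom).app I) := NatIso.isIso_app_of_isIso (restrTheta W.hom) I
  exact Injective.of_iso (asIso ((restrTheta W.hom).app I)).symm
    (Injective.injective_of_adjoint (EtShriek.extZeroAdj W.hom) I)

/-- `ℤ → (free W)|_W`. -/
def eta : EtCoh.const W.left ℤ ⟶ (EtCoh.pull W.hom).obj (free W) :=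
  ((EtCore.constAdj W.left).homEquiv _ _).symm (intHom (sa W (free W) (gen W)))

theorem gsec_map_symm {Y : Scheme.{u}} {G : EtCoh.Ab Y}
    (s : AddCommGrpCat.of (ULift.{u + 1} ℤ) ⟶ (EtCore.gsec Y).obj G) :
    (EtCore.gsec Y).map (((EtCore.constAdj Y).homEquiv _ _).symm s) (DescSecLib.etOneSec Y ⟨1⟩) = s ⟨1⟩ := by
  have h := Equiv.apply_symm_apply ((EtCore.constAdj Y).homEquiv _ _) s
  rw [DescSecLib.constAdj_homEquiv_apply] at h
  exact congrArg (fun t => t ⟨1⟩) h

theorem eta_one :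
    (EtCore.gsec W.left).map (eta W) (DescSecLib.etOneSec W.left ⟨1⟩) = sa W (free W) (gen W) :=
  (gsec_map_symm _).trans (intHom_one _)

theorem eta_map {G : EtCoh.Ab X} (a : free W ⟶ G) :
    (EtCore.gsec W.left).map (eta W ≫ (EtCoh.pull W.hom).map a) (DescSecLib.etOneSec W.left ⟨1⟩) =
      sa W G (a.hom.app (op W) (gen W)) := by
  rw [Functor.map_comp, ConcreteCategory.comp_apply, eta_one]
  exact sa_natural W a (gen W)

/-- `Ext^n(free W, F) → H^n(W, F|_W)`. -/
def psi (F : EtCoh.Ab X) (n : ℕ) :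
    Ext.{u + 1} (free W) F n →+ EtCoh.H W.left ((EtCoh.pull W.hom).obj F) n :=
  ((Ext.mk₀ (eta W)).precomp _ (zero_add n)).comp ((EtCoh.pull W.hom).mapExtAddHom _ _ n)

theorem psi_apply {F : EtCoh.Ab X} {n : ℕ} (y : Ext.{u + 1} (free W) F n) :
    psi W F n y = (Ext.mk₀ (eta W)).comp (y.mapExactFunctor (EtCoh.pull W.hom)) (zero_add n) := rfl

theorem psi_postcomp {F F' : EtCoh.Ab X} (f : F ⟶ F') {n : ℕ} (y : Ext.{u + 1} (free W) F n) :
    psi W F' n (y.comp (Ext.mk₀ f) (add_zero n)) =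
      Ext.comp (psi W F n y) (Ext.mk₀ ((EtCoh.pull W.hom).map f)) (add_zero n) := by
  simp only [psi_apply, Ext.mapExactFunctor_comp, Ext.mapExactFunctor_mk₀, Ext.comp_assoc_of_third_deg_zero]

theorem psi_delta {S : ShortComplex (EtCoh.Ab X)} (hS : S.ShortExact) {n : ℕ}
    (y : Ext.{u + 1} (free W) S.X₃ n) :
    psi W S.X₁ (n + 1) (y.comp hS.extClass rfl) =
      Ext.comp (psi W S.X₃ n y) (hS.map_of_exact (EtCoh.pull W.hom)).extClass rfl := by
  rw [psi_apply, psi_apply, Ext.mapExactFunctor_comp, Ext.mapExactFunctor_extClass]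
  exact (Ext.comp_assoc _ _ _ _ _ (by omega)).symm

theorem psi_bijective : ∀ (n : ℕ) (F : EtCoh.Ab X), Function.Bijective (psi W F n) := by
  intro n
  induction n with
  | zero =>
    intro F
    have h0 : ∀ f : free W ⟶ F, psi W F 0 (Ext.mk₀ f) = Ext.mk₀ (eta W ≫ (EtCoh.pull W.hom).map f) :=
      fun f => by rw [psi_apply, Ext.mapExactFunctor_mk₀, Ext.mk₀_comp_mk₀]
    refine ⟨fun a b hab => ?_, fun z => ?_⟩
    · obtain ⟨f, rfl⟩ := (Ext.mk₀_bijective _ _).2 a
      obtain ⟨g, rfl⟩ := (Ext.mk₀_bijective _ _).2 b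
      rw [h0, h0] at hab
      have h := congrArg (fun t => (EtCore.gsec W.left).map t (DescSecLib.etOneSec W.left ⟨1⟩))
        ((Ext.mk₀_bijective _ _).1 hab)
      erw [eta_map W f, eta_map W g] at h
      exact congrArg _ (free_hom_ext W ((bijective_sa W F).1 h))
    · obtain ⟨t, rfl⟩ := (Ext.mk₀_bijective _ _).2 z
      obtain ⟨s, hs⟩ := (bijective_sa W F).2 ((EtCore.gsec W.left).map t (DescSecLib.etOneSec W.left ⟨1⟩))
      refine ⟨Ext.mk₀ (desc W s), (h0 _).trans (congrArg _ (DescSecLib.et_ext_Z _ _ ?_))⟩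
      erw [eta_map W (desc W s)]
      rw [desc_gen, hs]
  | succ n ih =>
    intro F
    let ip := (EnoughInjectives.presentation F).some
    let S := ShortComplex.mk ip.f (cokernel.π ip.f) (cokernel.condition _)
    have hS : S.ShortExact := { exact := ShortComplex.exact_of_g_is_cokernel _ (cokernelIsCokernel _) }
    haveI : Injective S.X₂ := ip.injective
    haveI : Injective (S.map (EtCoh.pull W.hom)).X₂ := injective_pull W S.X₂
    have hG := hS.map_of_exact (EtCoh.pull W.hom)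
    refine ⟨(injective_iff_map_eq_zero _).2 fun x hx => ?_, fun z => ?_⟩
    · obtain ⟨y, rfl⟩ := Ext.covariant_sequence_exact₁ (free W) hS x (Ext.eq_zero_of_injective _) (n₀ := n) rfl
      change psi W S.X₁ (n + 1) (y.comp hS.extClass rfl) = 0 at hx
      rw [psi_delta] at hx
      obtain ⟨w, hw⟩ := Ext.covariant_sequence_exact₃ _ hG _ rfl hx
      obtain ⟨w₀, rfl⟩ := (ih S.X₂).2 w
      change Ext.comp (psi W S.X₂ n w₀) (Ext.mk₀ ((EtCoh.pull W.hom).map S.g)) _ = _ at hw
      rw [← psi_postcomp] at hw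
      rw [← (ih S.X₃).1 hw, Ext.comp_assoc_of_second_deg_zero, hS.comp_extClass, Ext.comp_zero]
    · obtain ⟨w, hw⟩ := Ext.covariant_sequence_exact₁ _ hG (n₁ := n + 1) z (Ext.eq_zero_of_injective _) (n₀ := n) rfl
      obtain ⟨y, rfl⟩ := (ih S.X₃).2 w
      exact ⟨y.comp hS.extClass rfl, (psi_delta W hS y).trans hw⟩

/-- An etale object in the slice category. -/
abbrev ov : Over X := Over.mk W.hom

variable {W}

/-- A morphism in the slice category. -/
abbrev ovMap {U V : X.Etale} (φ : U ⟶ V) : ov U ⟶ ov V := Over.homMk φ.left (MorphismProperty.Over.w φ)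

theorem theta_eq_c (F : EtCoh.Ab X) {U V : X.Etale} (φ : U ⟶ V) :
    DescSecLib.etSys.θ F (ovMap φ) =
      (DescSecLib.etSys.c φ.left V.hom U.hom (MorphismProperty.Over.w φ)).app F := by
  simp only [DescSecLib.PullSys.θ, DescSecLib.PullSys.k, DescSecLib.PullSys.c, Adjunction.comp_homEquiv]
  rfl

theorem chase {𝒞 : Type*} [Category 𝒞] {a₀ a₁ a₂ a₃ a₄ a₅ a₆ a₇ : 𝒞} {a : a₀ ⟶ a₁} {b : a₁ ⟶ a₂}
    {c : a₂ ⟶ a₃} {f : a₃ ⟶ a₇} {p : a₂ ⟶ a₄} {q : a₄ ⟶ a₇} {r : a₁ ⟶ a₅} {s : a₅ ⟶ a₄} {χ : a₀ ⟶ a₅}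
    {d : a₀ ⟶ a₆} {g : a₆ ⟶ a₃} {k : a₆ ⟶ a₀} {s' : a₅ ⟶ a₇}
    (h1 : c ≫ f = p ≫ q) (h2 : b ≫ p = r ≫ s) (h3 : a ≫ r = χ) (h4 : s ≫ q = s')
    (h5 : g ≫ f = k ≫ χ ≫ s') (h6 : d ≫ k = 𝟙 a₀) : (a ≫ b ≫ c) ≫ f = (d ≫ g) ≫ f := by
  rw [Category.assoc, Category.assoc, h1, reassoc_of% h2, reassoc_of% h3, h4, Category.assoc, h5,
    reassoc_of% h6]

theorem z_eta {U V : X.Etale} (φ : U ⟶ V) :
    DescSecLib.etSys.z φ.left ≫ (EtCoh.pull φ.left).map (eta V) ≫
        (DescSecLib.etSys.c φ.left V.hom U.hom (MorphismProperty.Over.w φ)).app (free V) =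
      eta U ≫ (EtCoh.pull U.hom).map (freeMap φ) := by
  refine DescSecLib.et_ext_Z _ _ ?_
  erw [eta_map U (freeMap φ)]
  rw [freeMap_gen]
  refine (DescSecLib.etSys.gs_map_z φ.left _).trans ?_
  show (DescSecLib.etσ φ.left).app _ ((EtCore.gsec V.left).map
    ((EtCoh.pullPushAdj φ.left).homEquiv _ _ ((EtCoh.pull φ.left).map (eta V) ≫ _))
      (DescSecLib.etOneSec V.left ⟨1⟩)) = _
  erw [Adjunction.homEquiv_naturality_left, Functor.map_comp, ConcreteCategory.comp_apply, eta_one]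
  have hc := congrArg (fun t : free V ⟶ _ => t.hom.app (op V) (gen V))
    (DescSecLib.etSys.homEquiv_c φ.left V.hom U.hom (MorphismProperty.Over.w φ) (free V))
  simp only [Adjunction.homEquiv_unit] at hc
  set k := (EtCoh.pullPushAdj φ.left).homEquiv _ _
    ((DescSecLib.etSys.c φ.left V.hom U.hom (MorphismProperty.Over.w φ)).app (free V)) with hk
  have hc' : k.hom.app (op ((EtCoh.bc V.hom).obj V))
      (((EtCoh.pullPushAdj V.hom).unit.app (free V)).hom.app (op V) (gen V)) =
      ((EtCoh.pull U.hom).obj (free V)).obj.map (DescSecLib.bcCompHom φ.left V.hom U.hom (MorphismProperty.Over.w φ) V).op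
        (((EtCoh.pullPushAdj U.hom).unit.app (free V)).hom.app (op V) (gen V)) := by
    rw [hk, Adjunction.homEquiv_unit]
    exact hc
  show ((EtCoh.pull U.hom).obj (free V)).obj.map (EtCore.bcTopIso φ.left).inv.op (k.hom.app (op (EtCoh.top V.left))
    (((EtCoh.pull V.hom).obj (free V)).obj.map (diag V).op
      (((EtCoh.pullPushAdj V.hom).unit.app (free V)).hom.app (op V) (gen V)))) = _
  erw [NatTrans.naturality_apply k.hom (diag V).op, hc']
  show _ = ((EtCoh.pull U.hom).obj (free V)).obj.map (diag U).op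
    (((EtCoh.pullPushAdj U.hom).unit.app (free V)).hom.app (op U) ((free V).obj.map φ.op (gen V)))
  erw [NatTrans.naturality_apply ((EtCoh.pullPushAdj U.hom).unit.app (free V)).hom φ.op]
  show ((EtCoh.pull U.hom).obj (free V)).obj.map _ (((EtCoh.pull U.hom).obj (free V)).obj.map
    ((EtCoh.bc φ.left).map (diag V)).op (((EtCoh.pull U.hom).obj (free V)).obj.map _ _)) =
    ((EtCoh.pull U.hom).obj (free V)).obj.map _ (((EtCoh.pull U.hom).obj (free V)).obj.map
      ((EtCoh.bc U.hom).map φ).op _)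
  simp only [← ConcreteCategory.comp_apply, ← Functor.map_comp, ← op_comp]
  congr 3
  apply congrArg Quiver.Hom.op
  refine DescSecLib.bc_hom_ext U.hom _ _ ?_
  have e1 : ((EtCoh.bc φ.left).map (diag V)).left ≫ pullback.fst (pullback.snd V.hom V.hom) φ.left =
      pullback.fst (𝟙 V.left) φ.left ≫ (diag V).left := DescSecLib.bc_map_fst φ.left (diag V)
  have e2 : (EtCore.bcTopIso φ.left).inv.left ≫ pullback.snd (𝟙 V.left) φ.left = 𝟙 U.left :=
    MorphismProperty.Over.w (EtCore.bcTopIso φ.left).inv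
  have e3 : (EtCore.bcTopIso φ.left).inv.left ≫ pullback.fst (𝟙 V.left) φ.left = φ.left := by
    rw [← Category.comp_id (pullback.fst (𝟙 V.left) φ.left), pullback.condition, ← Category.assoc, e2]
    exact Category.id_comp _
  have e4 : (diag V).left ≫ pullback.fst V.hom V.hom = 𝟙 V.left := pullback.lift_fst _ _ _
  have e5 : (diag U).left ≫ pullback.fst U.hom U.hom = 𝟙 U.left := pullback.lift_fst _ _ _
  exact chase (DescSecLib.bcCompHom_fst φ.left V.hom U.hom (MorphismProperty.Over.w φ) V) e1 e3 e4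
    (DescSecLib.bc_map_fst U.hom φ) e5

theorem Hmap_psi (F : EtCoh.Ab X) {n : ℕ} {U V : X.Etale} (φ : U ⟶ V) (y : Ext.{u + 1} (free V) F n) :
    DescSecLib.etSys.Hmap F n (ovMap φ) (psi V F n y) =
      psi U F n ((Ext.mk₀ (freeMap φ)).comp y (zero_add n)) := by
  rw [DescSecLib.PullSys.Hmap_apply, psi_apply, psi_apply, theta_eq_c, Ext.mapExactFunctor_comp,
    Ext.mapExactFunctor_comp, Ext.mapExactFunctor_mk₀, Ext.mapExactFunctor_mk₀,
    ← Ext.comp_assoc_of_second_deg_zero, Ext.mk₀_comp_mk₀, Ext.comp_assoc_of_third_deg_zero]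
  erw [← DescSecLib.mapExactFunctor_compFunctor,
    DescSecLib.mapExactFunctor_natTrans (DescSecLib.etSys.c φ.left V.hom U.hom (MorphismProperty.Over.w φ)) y]
  erw [← Ext.comp_assoc_of_second_deg_zero, Ext.mk₀_comp_mk₀, Category.assoc, z_eta]
  rw [← Ext.mk₀_comp_mk₀, Ext.comp_assoc_of_second_deg_zero]
  rfl

end

end EtSliceLib
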